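import Mathlib
import Cfsg.Agent.Lib.F24T.Thom
import Cfsg.Agent.Lib.Fi24T.Main
import Cfsg.Agent.Lib.FiTool.MFi
import Cfsg.Agent.Lib.Mathieu.M24

/-!
The subgroup `2 ^ 11 . M₂₄` of `Fi₂₄'` as the normalizer of the Thompson subgroup of a Sylow 2-subgroup.
-/

set_option autoImplicit false

namespace CfsgLib.FiMM

open Cfsg CfsgLib.Comput CfsgLib.ThreeTrans CfsgLib.FiTool CfsgLib.Fi24T CfsgLib.Fi24T.MS CfsgLib.PLocal Subgroup
open CfsgLib.Mathieu (P24 code Has word)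
open CfsgLib.Golay (ix)

variable {G F : Type*} [Group G] [Group F] {D : Set F} {g pt : ℕ → F}

def lab (p : GolayPt) : ℕ :=
  [1, 2, 3, 4, 5, 17, 13, 10, 9, 7, 18, 6, 19, 23, 14, 16, 22, 21, 11, 12, 8, 15, 20, 0].getD (ix p) 0

def unlab (i : ℕ) : GolayPt :=
  Golay.pt ([23, 0, 1, 2, 3, 4, 11, 9, 20, 8, 7, 18, 19, 6, 14, 21, 15, 5, 10, 12, 22, 17, 16, 13].getD i 0)

theorem lab_lt : ∀ p, lab p < 24 := by decide

theorem unlab_lab : ∀ p, unlab (lab p) = p := by decide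

theorem lab_unlab : ∀ i < 24, lab (unlab i) = i := by decide

def cT : List ℕ := [818644617236076583490920125089286145, 13522150597528027721274484959332503,
  976744607271238274107390517796254752, 140759974731289761533537559038903924, 977007932088658921184254239408010272,
  6816284186917235046306633202908823, 584306088500194209095022119245666789]

/-- the base indexed by the points of the Golay code -/
noncomputable abbrev bp (pt : ℕ → F) (p : GolayPt) : F := b24 pt (lab p)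

theorem bp_mem (M : FiTool.M24 D g pt) (p : GolayPt) : bp pt p ∈ D := M.b_mem (lab_lt p)

theorem bp_inj (M : FiTool.M24 D g pt) : Function.Injective (bp pt) := fun p q e => by
  rw [← unlab_lab p, M.bm.inj _ (lab_lt p) _ (lab_lt q) e, unlab_lab]

theorem bp_comm (M : FiTool.M24 D g pt) (p q : GolayPt) : Commute (bp pt p) (bp pt q) :=
  M.bm.comm _ (lab_lt p) _ (lab_lt q)

theorem bp_V (pt : ℕ → F) (p : GolayPt) : bp pt p ∈ V24 pt := subset_closure ⟨_, lab_lt p, rfl⟩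

theorem exists_phi (M : FiTool.M24 D g pt) : ∃ φ : M0 pt →* P24,
    (∀ (x : M0 pt) p, x * bp pt p * (x : F)⁻¹ = bp pt (φ x p)) ∧ (∀ x, φ x = 1 ↔ x.1 ∈ A0 pt) ∧ φ.range = Cfsg.M24 := by
  have h : ∀ (x : M0 pt) p, ∃ q, x * bp pt p * (x : F)⁻¹ = bp pt q := fun x p => by
    obtain ⟨j, hj, e⟩ := exists_img M x.2 (lab_lt p)
    exact ⟨unlab j, by rw [← e, bp, lab_unlab j hj]⟩
  choose σ hσ using h
  have hm : ∀ a b p, σ (a * b) p = σ a (σ b p) := fun a b p => bp_inj M (by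
    rw [← hσ, ← hσ, ← hσ, coe_mul]; group)
  have h1 : ∀ p, σ 1 p = p := fun p => bp_inj M (by rw [← hσ]; simp)
  let φ : M0 pt →* P24 := MonoidHom.mk' (fun x => ⟨σ x, σ x⁻¹, fun i => by simp [← hm, h1],
    fun i => by simp [← hm, h1]⟩) fun a b => Equiv.ext (hm a b)
  have hk : ∀ x, φ x = 1 ↔ x.1 ∈ A0 pt := fun x => ⟨fun e => ⟨x.2.1, M.Cen_eq_V.le <| mem_Cen.2 fun j hj => by
      have := hσ x (unlab j)
      rw [show σ x _ = _ from DFunLike.congr_fun e (unlab j), Equiv.Perm.one_apply, bp, lab_unlab j hj] at this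
      exact mul_inv_eq_iff_eq_mul.1 this⟩,
    fun e => Equiv.ext fun p => bp_inj M ((hσ x p).symm.trans (A0_le_cent M e (bp_V pt p)))⟩
  have hc : ∀ m < 7, code (φ ⟨_, tau_M0 M m⟩) = cT.getD m 0 := fun m hm =>
    Mathieu.code_eq_of_forall (by clear * - hm; revert m; decide +kernel) fun p => by
      have := (pmT M).step m _ (lab_lt p)
      rw [show φ ⟨_, tau_M0 M m⟩ p = unlab (tabP ttM m (lab p)) from bp_inj M
        ((hσ _ p).symm.trans ((smul_cpt_iff.1 this.2).trans (by rw [bp, lab_unlab _ this.1])))]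
      clear * - hm; revert m p; decide +kernel
  refine ⟨φ, hσ, hk, le_antisymm ?_ ?_⟩
  · rintro _ ⟨x, rfl⟩
    refine (M0_le M (K := (Cfsg.M24.comap φ).map (M0 pt).subtype) (fun m => ⟨⟨_, tau_M0 M m⟩, ?_, rfl⟩)
      (fun a ha => ⟨⟨a, A0_M0 pt ha⟩, mem_comap.2 ((hk ⟨a, _⟩).2 ha ▸ one_mem _), rfl⟩) x.2).elim
        fun y hy => Subtype.ext hy.2 ▸ hy.1
    by_cases hm : m < 7
    · exact Mathieu.mem_M24_of_presCode (by rw [hc m hm]; clear * - hm; revert m; decide +kernel)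
    · exact mem_comap.2 ((hk ⟨_, _⟩).2 (tau_of_le g (not_lt.1 hm) ▸ one_mem _) ▸ one_mem _)
  have hT : ∀ a ∈ cT, Has φ.range a := fun a ha => by
    obtain ⟨m, hm, rfl⟩ := (by decide +kernel : ∀ a ∈ cT, ∃ m < 7, a = cT.getD m 0) a ha
    exact ⟨_, ⟨_, rfl⟩, hc m hm⟩
  have k : ∀ {y} w, word cT w = code y → y ∈ φ.range := fun w e => Has.mem (e ▸ Mathieu.has_word hT w)
  exact Mathieu.M24_le (k [2, 5, 4, 0, 3, 6, 5, 6, 5, 4, 6, 1, 6, 5, 6, 5, 4, 2, 1, 0]
      (by rw [Mathieu.code_alpha]; decide +kernel))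
    (k [5, 6, 1, 2, 5, 6, 5, 4, 0, 4, 0, 6, 5, 1, 4, 0, 6, 5, 6, 4, 5, 6, 5, 4, 0]
      (by rw [Mathieu.code_projInv]; decide +kernel))
    (k [1, 4, 0, 5, 6, 5, 1, 4, 0, 3, 2, 5, 4, 5, 6, 5, 1, 6, 5, 6, 4, 5, 4]
      (by rw [Mathieu.code_cubeTwist]; decide +kernel))

/-- the product of the members of the base at the listed points -/
noncomputable abbrev pr (pt : ℕ → F) (l : List GolayPt) : F := (l.map (bp pt)).prod

theorem isCP_pr (M : FiTool.M24 D g pt) {l : List GolayPt} (h : l.Nodup) : IsCP D l.length (pr pt l) :=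
  isCP_iff.2 ⟨_, ⟨h.map (bp_inj M), List.forall_mem_map.2 fun p _ => bp_mem M p,
    List.forall_mem_map.2 fun p _ => List.forall_mem_map.2 fun q _ => bp_comm M p q⟩, List.length_map _, rfl⟩

theorem pr_mem (M : FiTool.M24 D g pt) : ∀ l : List GolayPt, pr pt l ∈ commutator F ↔ Even l.length
  | [] => iff_of_true (one_mem _) Even.zero
  | p :: l => by
    rw [pr, List.map_cons, List.prod_cons, mul_mem_iff_of_index_two M.index, pr_mem M l, List.length_cons,
      Nat.even_add_one]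
    simp [M.not_mem_comm (bp_mem M p)]

theorem A0_cases (M : FiTool.M24 D g pt) {a : F} (ha : a ∈ A0 pt) (h1 : a ≠ 1) :
    ∃ l : List GolayPt, l.Nodup ∧ (l.length = 2 ∨ l.length = 4) ∧ pr pt l = a := by
  obtain ⟨c, hc, rfl⟩ := M.bm.mem_V.1 ha.2
  obtain ⟨X, -, h4, rfl⟩ := M.bm.cov c hc
  have e : pr pt ((bitL 24 X).map unlab) = bprod (b24 pt) 12 (synM (nth 0 cs24) 24 X) := by
    rw [← M.bm.bprod_syn, ← prod_bitL, pr, List.map_map]
    exact congrArg _ (List.map_congr_left fun i hi => congrArg (b24 pt) (lab_unlab i (mem_bitL.1 hi).1))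
  have h2 := (pr_mem M _).1 (e ▸ ha.1)
  refine ⟨_, (nodup_bitL 24 X).map_on fun i hi j hj h => ?_, ?_, e⟩
  · rw [← lab_unlab i (mem_bitL.1 hi).1, h, lab_unlab j (mem_bitL.1 hj).1]
  have h3 : ((bitL 24 X).map unlab).length ≠ 0 := fun h => h1 (by rw [← e, List.length_eq_zero_iff.1 h]; rfl)
  rw [← length_bitL, ← List.length_map unlab] at h4
  rw [Nat.even_iff] at h2
  omega

theorem pr_conj (M : FiTool.M24 D g pt) {l l' : List GolayPt} (h : l.Nodup) (h' : l'.Nodup) (e : l.length = l'.length)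
    (h5 : l.length ≤ 5) : ∃ x ∈ M0 pt, x * pr pt l * x⁻¹ = pr pt l' := by
  obtain ⟨φ, h1, -, h2⟩ := exists_phi M
  obtain ⟨_, hy, rfl⟩ := Mathieu.list_trans24 l l' h h' e h5
  obtain ⟨x, rfl⟩ := h2.ge hy
  refine ⟨x, x.2, ?_⟩
  rw [← prod_cjL, cjL, pr, List.map_map, List.map_map]
  exact congrArg _ (List.map_congr_left fun p _ => h1 x p)

theorem z0_eq_pr (pt : ℕ → F) : pr pt [some 0, some 1, some 3, some 11] = z0 pt := prod_z0 pt

theorem elab_A0 (M : FiTool.M24 D g pt) : IsElementaryAbelian 2 (A0 pt) :=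
  elemAb_iff.2 ⟨fun _ ha _ hb => M.bm.V_comm ha.2 hb.2, fun _ ha => (pow_two _).trans (M.bm.V_sq ha.2)⟩

theorem card_A0 (M : FiTool.M24 D g pt) : Nat.card (A0 pt) = 2 ^ 11 := by
  have := M.finite
  have h := Core.card_inf_mul_relIndex (commutator F) (V24 pt)
  rw [relIndex_eq_two_iff_exists_notMem_and.2 ⟨_, bp_V pt none, M.not_mem_comm (bp_mem M _), fun b _ =>
    (em _).symm.imp_left fun h => M.mul_mem_comm' h (bp_mem M _)⟩, M.bm.card_V] at h
  exact Nat.eq_of_mul_eq_mul_right two_pos h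

theorem mem_M0 (M : FiTool.M24 D g pt) {x : F} (hx : x ∈ commutator F) (h : ∀ a ∈ A0 pt, x⁻¹ * a * x ∈ A0 pt) :
    x ∈ M0 pt := by
  have := M.finite
  refine ⟨hx, Core.mem_normalizer_of_forall_conj_mem fun v hv => ?_⟩
  refine (closure_le ((V24 pt).comap (MulAut.conj x).toMonoidHom)).2 ?_ hv
  rintro _ ⟨i, hi, rfl⟩
  refine (mul_mem_cancel_right (bp_V pt none)).1 (cent_A0 M (M.mul_mem_comm (M.bm.conj_mem x _ (M.b_mem hi))
    (bp_mem M none)) fun a ha => Commute.mul_left ?_ (M.bm.V_comm (bp_V pt _) ha.2)).2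
  simpa [mul_assoc] using (M.bm.V_comm (subset_closure ⟨i, hi, rfl⟩) (h a ha).2).conj x

theorem elab_comap (M : FiTool.M24 D g pt) {j : G →* F} (h1 : Function.Injective j) (h2 : j.range = commutator F) :
    IsElementaryAbelian 2 ((A0 pt).comap j) ∧ Nat.card ((A0 pt).comap j) = 2 ^ 11 := by
  have e : ((A0 pt).comap j).map j = A0 pt := map_comap_eq_self (h2 ▸ inf_le_left)
  exact ⟨(elemAb_map_iff h1).1 (e.symm ▸ elab_A0 M), by rw [← card_map_of_injective h1, e, card_A0 M]⟩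

variable [Finite G] {z : G} {Q : Subgroup (centralizer ({z} : Set G))} [Q.Normal]

theorem exists_model (M : FiTool.M24 D g pt) (hF : IsOfLargeFischerTypeAt z Q) (T : Sylow 2 G) :
    ∃ j : G →* F, Function.Injective j ∧ j.range = commutator F ∧ (∃ y, j (y * z * y⁻¹) = z0 pt) ∧
      thompsonSubgroupOf 2 (T : Subgroup G) = (A0 pt).comap j ∧
        normalizer ((A0 pt).comap j : Set G) = (M0 pt).comap j := by
  obtain ⟨N, M', -, -, h⟩ := lf_of_type hF
  obtain ⟨π, ρ, f, -⟩ := F24T.frame h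
  obtain ⟨j, h1, h2, h3⟩ := exists_emb M h
  obtain ⟨y, hy⟩ := SylTools.exists_conj_le_sylow (elemAb_isPGroup (elab_comap M h1 h2).1) T
  let k := j.comp (MulAut.conj y⁻¹).toMonoidHom
  have k1 : Function.Injective k := h1.comp (MulAut.conj y⁻¹).injective
  have k2 : k.range = commutator F := by
    rw [MonoidHom.range_comp, MonoidHom.range_eq_top.2 (MulAut.conj y⁻¹).surjective, ← MonoidHom.range_eq_map, h2]
  obtain ⟨e1, e2⟩ := elab_comap M k1 k2
  refine ⟨k, k1, k2, ⟨y, by simpa [k, mul_assoc] using h3⟩, ?_, le_antisymm (fun x hx => ?_) fun x hx => ?_⟩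
  · rw [thompsonSubgroupOf_eq, f.maxElemIn_eq T.isPGroup' (fun x hx => ?_) e1 e2.ge, sSup_singleton]
    simpa [mul_assoc] using hy _ hx
  · refine mem_M0 M (k2 ▸ ⟨x, rfl⟩) fun a ha => ?_
    obtain ⟨a, rfl⟩ := k2.ge ha.1
    simpa using mem_comap.1 ((mem_normalizer_iff''.1 hx a).1 ha)
  · exact Core.mem_normalizer_of_forall_conj_mem fun a ha => by simpa using conj_A0 hx ha

end CfsgLib.FiMM
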