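import Mathlib
import Cfsg.Agent.Lib.Fi24T.Main

/-!
The centre of the centralizer `6.U₄(3)` of an element of order 3 of `O₂,₃(C(z))` lies in its commutator subgroup.
-/

set_option autoImplicit false
set_option maxRecDepth 100000

namespace CfsgLib.FiMM

open Cfsg CfsgLib.Comput CfsgLib.Fischer CfsgLib.FiTool CfsgLib.Fi24T CfsgLib.LargeExtra Subgroup

variable {G F : Type*} [Group G] [Group F] {D : Set F} {g pt : ℕ → F} {z : G} {Q N M' : Subgroup G}

def usO : List ℕ := usQ ++ [0xa0207030408050406050302040803040506070a060708040503060408050403050608040504080604050706,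
  0x905080403080201050604070805090603020403080405040803040203060905080704060501020803040805090c0a03,
  0x407020103020607050604030804050408030406050706020301020b,
  0x30a0c090508040308020105060407080509060302040308040504080304020306090508070406050102080304080509,
  0xb020103020607050604030804050408030406050706020301020704]

def eqO : List Eqn := [([16, 16, 16], []), ([16, 13], [13, 16]), ([17, 13], [13, 17]), ([18, 13], [13, 18]),
  ([17, 16], [16, 17]), ([18, 16], [16, 18]), ([17, 19], []), ([18, 20], []), ([14, 16], [16, 14]),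
  ([15, 16], [1, 3, 4, 13, 16, 16, 15]), ((List.replicate 7 [17, 18, 19, 20]).flatten, [13, 16, 16])]

theorem usO_par : allL (fun w => Nat.beq (act parS w 0) 0) usO = true := by decide +kernel

theorem eqO_ok : allL (eqP (stepW ps24 usO) gp24) eqO = true := by decide +kernel

theorem usO_ne : bnot (Nat.beq (actL (stepW ps24 usO) [16] 305570) 305570) = true := by decide +kernel

theorem exists_omega [Finite G] (M : FiTool.M24 D g pt) (h : LF z Q N M') : ∃ x : G, x ≠ 1 ∧ x ^ 3 = 1 ∧
    x * z = z * x ∧ centralizer {z} ≤ normalizer ((zpowers x ⊔ Q : Subgroup G) : Set G) ∧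
      z * x ^ 2 ∈ ⁅centralizer ({z} : Set G) ⊓ centralizer {x}, centralizer ({z} : Set G) ⊓ centralizer {x}⁆ := by
  have := M.finite
  obtain ⟨e, he⟩ := main M h
  obtain ⟨h1, ⟨_, _, h2⟩, -, h3⟩ := lf_model' M
  let γ : ℕ → commutator F := fun m =>
    ⟨lw g usO m, ev_nth_mem (fun w hw => ev_mem_comm M (allL_sound usO_par w hw)) m⟩
  have e1 : ∀ m < 15, γ m = lq M m := fun m hm => Subtype.ext (congrArg (ev g) (by revert m; decide +kernel))
  have e2 : ∀ l, evL (fun m => e (γ m)) l = e (evL γ l) := fun l => (map_evL e.toMonoidHom γ l).symm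
  have E : AllHold (fun m => e (γ m)) eqO := fun u hu => by
    rw [Eqn.Holds, e2, e2]
    exact congrArg e (Subtype.ext ((map_evL (commutator F).subtype γ _).trans
      (((M.fm.pm.words usO).allHold (fun _ => mem_top _) M.base eqO_ok u hu).trans
        (map_evL (commutator F).subtype γ _).symm)))
  have hQ : Q.comap e.toMonoidHom = QG.Q (lq M) := eq_of_le_of_card_ge (h3 _
    (fun x hx => mem_cent.2 (e.injective (by simpa [he] using h.pre.es.comm_z _ hx)))
    (fun x hx y hy => by simpa using h.pre.norm (e x) (by simpa [he] using congrArg e hx) _ hy)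
    (h.pre.es.isPGroup.comap_of_injective _ e.injective))
    (by rw [h2.cardQ, ← card_map_of_injective (f := e.toMonoidHom) e.injective,
      map_comap_eq_self_of_surjective e.surjective, h.cardQ])
  have e3 : ∀ m < 15, ev (fun m => e (γ m)) (m + 1) = e (lq M m) := fun m hm => by rw [ev_letter _ (by omega), e1 m hm]
  have ne : ev (fun m => e (γ m)) 16 ≠ 1 := by
    rw [← evL_one, e2, map_ne_one_iff _ e.injective]
    exact fun h => (M.fm.pm.words usO).evL_ne_one (by norm_num) usO_ne
      ((map_evL (commutator F).subtype γ _).symm.trans (congrArg Subtype.val h))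
  simp only [AllHold, eqO, List.forall_mem_cons, Eqn.Holds, evL_flatten_replicate, evL_cons, evL_nil, mul_one] at E
  generalize ev (fun m => e (γ m)) = δ at E e3 ne
  have mQ : ∀ m < 13, δ (m + 1) ∈ Q := fun m hm => by rw [e3 m (by omega)]; exact hQ.ge (QG.mem hm)
  obtain rfl : δ 13 = z := by rw [e3 12 (by omega), lq_z, he]
  obtain ⟨a1, a2, a3, a4, a5, a6, a7, a8, a9, a10, a11, -⟩ := E
  have l : Q ≤ zpowers (δ 16) ⊔ Q := le_sup_right
  have mx : δ 16 ∈ zpowers (δ 16) ⊔ Q := mem_sup_left (mem_zpowers _)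
  refine ⟨δ 16, ne, by rw [pow_three, a1], a2, fun y hy => ?_, ?_⟩
  · obtain ⟨y, rfl⟩ := e.surjective y
    have : y ∈ closure (bset (lq M) 15) := h1 ▸ mem_cent.2 (e.injective (by simpa [he] using mem_cent.1 hy))
    refine (closure_le ((normalizer _).comap e.toMonoidHom)).2 ?_ this
    rintro _ ⟨m, hm, rfl⟩
    refine mem_comap.2 (show e (lq M m) ∈ normalizer ((zpowers (δ 16) ⊔ Q : Subgroup G) : Set G) from ?_)
    have c : e (lq M m) * δ 13 = δ 13 * e (lq M m) := by
      simpa [he] using congrArg e (mem_cent.1 (h1.le (subset_closure ⟨m, hm, rfl⟩)))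
    rw [← e3 m hm] at c ⊢
    by_cases h13 : m < 13
    · exact le_normalizer (l (mQ m h13))
    refine Core.mem_normalizer_of_forall_conj_mem fun u hu => (sup_le (b := Q) (c := comap
      (MulAut.conj (δ (m + 1))).toMonoidHom (zpowers (δ 16) ⊔ Q)) (zpowers_le.2 ?_)
        fun u hu => mem_comap.2 (l (h.pre.norm _ c u hu))) hu
    refine mem_comap.2 (show δ (m + 1) * δ 16 * (δ (m + 1))⁻¹ ∈ zpowers (δ 16) ⊔ Q from ?_)
    rcases (by omega : m = 13 ∨ m = 14) with rfl | rfl
    · rwa [a9, mul_inv_cancel_right]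
    · rw [a10]
      simpa only [mul_assoc, mul_inv_cancel, mul_one] using mul_mem (l (mQ 0 (by omega))) (mul_mem (l (mQ 2 (by omega)))
        (mul_mem (l (mQ 3 (by omega))) (mul_mem (l (mQ 12 (by omega))) (mul_mem mx mx))))
  · rw [pow_two, ← a11, ← inv_eq_of_mul_eq_one_right a7, ← inv_eq_of_mul_eq_one_right a8, ← mul_assoc, ← mul_assoc]
    exact pow_mem (commutator_mem_commutator (mem_inf.2 ⟨mem_cent.2 a3, mem_cent.2 a5⟩)
      (mem_inf.2 ⟨mem_cent.2 a4, mem_cent.2 a6⟩)) 7

end CfsgLib.FiMM
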