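import Mathlib
import Cfsg.Agent.Lib.F24T.Six
import Cfsg.Agent.Lib.FiMM.Om
import Cfsg.Agent.Lib.FiTool.MFi

/-!
The centralizer `6.U₄(3)` of an element of order 3 of `O₂,₃(C(z))`.
-/

set_option autoImplicit false
set_option maxRecDepth 100000

namespace CfsgLib.FiMM

open CfsgLib.F24T CfsgLib.ExtraTwo CfsgLib.LargeExtra CfsgLib.Golay Subgroup

theorem zpowers_three {Γ : Type*} [Group Γ] {x y : Γ} (h : x ^ 3 = 1) (hy : y ∈ zpowers x) :
    y = 1 ∨ y = x ∨ y = x * x := by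
  obtain ⟨k, rfl⟩ := mem_zpowers_iff.1 hy
  rw [zpow_eq_zpow_emod' k h]
  rcases (by omega : k % 3 = 0 ∨ k % 3 = 1 ∨ k % 3 = 2) with e | e | e <;> simp [e, pow_two]

theorem exists_gen_three {Γ : Type*} [Group Γ] {S : Subgroup Γ} (h : Nat.card S = 3) :
    ∃ x, x ≠ 1 ∧ x ^ 3 = 1 ∧ S = zpowers x := by
  have := Nat.finite_of_card_ne_zero (h ▸ by decide : Nat.card S ≠ 0)
  obtain ⟨x, hx, h1⟩ := S.bot_or_exists_ne_one.resolve_left (by rintro rfl; simp at h)
  have h3 : x ^ 3 = 1 := congrArg Subtype.val (h ▸ pow_card_eq_one' (x := (⟨x, hx⟩ : S)))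
  exact ⟨x, h1, h3, (eq_of_le_of_card_ge (zpowers_le.2 hx) (by rw [h, Nat.card_zpowers, orderOf_eq_prime h3 h1])).symm⟩

theorem eq_wS {ζ : GL0} (h1 : ζ ≠ 1) (h3 : ζ ^ 3 = 1) (h : ∀ g ∈ M0, g * ζ * g⁻¹ ∈ zpowers ζ) :
    ζ = wS ∨ ζ = wS * wS := by
  have h0 : ∀ A ∈ [[0, 0], [1, 1], [2, 2, 2], [3, 3], [4, 1, 4, 1]].map fun u => mp (wd mL u) (wd mL u),
      Has (centralizer {ζ}) A := fun A hA => by
    obtain ⟨u, -, rfl⟩ := List.mem_map.mp hA
    obtain ⟨g, hg, ha⟩ := has_wd has_M0 u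
    refine ⟨_, mem_cent.2 (mul_inv_eq_iff_eq_mul.1 ?_), ha.mul ha⟩
    rw [show g * g * ζ * (g * g)⁻¹ = g * (g * ζ * g⁻¹) * g⁻¹ by group]
    rcases zpowers_three h3 (h g hg) with e | e | e
    · exact absurd (conj_eq_one_iff.1 e) h1
    · rw [e, e]
    · rw [e, ← conj_mul, e, ← mul_assoc, ← pow_three', h3, one_mul]
  have h2 : M0 ≤ centralizer {ζ} :=
    GenS_le (has_of_wdOK h0 (L := mL.zip [[0], [1], [2], [3], [4, 1, 1]]) (by decide +kernel))
  exact (central_M0 fun x hx => (mem_cent.1 (h2 hx)).symm).resolve_left h1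

theorem H0_inf_Lin (c : Nat.card M0 = 9797760) (c' : Nat.card H0 = 19595520) : H0 ⊓ Lin = M0 := by
  refine (eq_of_le_of_card_ge (le_inf M0_le_H0 (M0_le.trans inf_le_right)) ?_).symm
  obtain ⟨k, hk⟩ := card_dvd_of_le (inf_le_left : H0 ⊓ Lin ≤ H0)
  have : k ≠ 1 := by
    rintro rfl
    obtain ⟨m, hm, ha⟩ := has_H0 m5 (by decide)
    rw [← eq_of_le_of_card_ge (inf_le_left : H0 ⊓ Lin ≤ H0) (by omega)] at hm
    exact SL.not_lin ((ha.mul act_wS).eq_of ((act_wS.mul act_wS).mul ha) (by decide +kernel)) hm.2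
  rw [c'] at hk
  rcases k with _ | _ | k
  · omega
  · omega
  · nlinarith

theorem w_facts {ζ : GL0} (h : ζ = wS ∨ ζ = wS * wS) :
    (∀ v, ζ v + ζ (ζ v) = v) ∧ centralizer {ζ} = Lin ∧ zpowers ζ = zpowers wS := by
  have e : wS * wS * (wS * wS) = wS := by rw [← mul_assoc, wS_cube, one_mul]
  have k : ∀ v, wS v + wS (wS v) = v := fun v => by
    simp only [wS_apply, smul_smul, ← add_smul]; rw [show w + w * w = 1 by decide, one_smul]
  rcases h with rfl | rfl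
  · exact ⟨k, rfl, rfl⟩
  refine ⟨fun v => by rw [← LinearEquiv.mul_apply (wS * wS), e, add_comm]; exact k v, Subgroup.ext fun g =>
    mem_cent.trans (Iff.trans ⟨fun h => ?_, fun h => ?_⟩ mem_cent.symm), le_antisymm
      (zpowers_le.2 (mul_mem (mem_zpowers _) (mem_zpowers _)))
      (zpowers_le.2 (e ▸ mul_mem (mem_zpowers (wS * wS)) (mem_zpowers _) :))⟩
  · exact e ▸ Commute.mul_right h h
  · exact Commute.mul_right h h

variable {G : Type*} [Group G] {z : G} {Q N M : Subgroup G} {π : G → V0} {ρ : centralizer ({z} : Set G) →* GL0}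

theorem exists_conj_three (f : FM z Q π ρ) {x y : centralizer ({z} : Set G)} (hx : x ^ 3 = 1) (hy : y ^ 3 = 1)
    (e : ρ x = ρ y) (h : ρ y = wS ∨ ρ y = wS * wS) :
    ∃ q : centralizer ({z} : Set G), ρ q = 1 ∧ q * y * q⁻¹ = x := by
  have a : (x * (y : G)⁻¹ : G) ∈ Q := (f.ker (x * y⁻¹)).1 (by simp [e])
  obtain ⟨q, hq, h1⟩ := f.co.surj (ρ y (π (x * (y : G)⁻¹)))
  have b := f.norm y (inv_mem hq)
  refine ⟨⟨q, f.pre.le_cent hq⟩, (f.ker _).2 hq, ?_⟩
  rcases (f.co.eq_iff a (mul_mem hq b)).1 (by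
    rw [f.co.map_mul _ hq _ b, ← f.act _ _ (inv_mem hq), f.co.map_inv hq, h1, (w_facts h).1]) with h2 | h2
  · exact Subtype.ext (by simpa [← mul_assoc] using h2)
  have h3 : q * y * q⁻¹ = z * x := by
    rw [← mul_left_inj (y : G)⁻¹, mul_assoc z, ← f.pre.es.comm_z _ a, ← h2]; group
  have := congrArg (· ^ 3) h3
  simp only [conj_pow, Commute.mul_pow (mem_cent.1 x.2).symm, ← coe_pow, hx, hy, pow_three' z,
    f.pre.es.mul_self] at this
  exact absurd (by simpa using this.symm) f.pre.es.ne_one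

theorem rho_three [Finite G] (f : FM z Q π ρ) {x : centralizer ({z} : Set G)} (h1 : x ≠ 1) (h3 : x ^ 3 = 1)
    (h : ∀ g, ρ (g * x * g⁻¹) ∈ zpowers (ρ x)) : ρ x = wS ∨ ρ x = wS * wS := by
  refine eq_wS (fun e => h1 ?_) (by rw [← map_pow, h3, map_one]) fun g hg => ?_
  · have := f.pre.es.pow_four ((f.ker x).1 e)
    rw [← coe_pow, pow_succ, h3, one_mul] at this
    exact Subtype.ext this
  · obtain ⟨g, rfl⟩ := f.le hg
    simpa using h g

theorem center_PM : center U43.PM = ⊥ := by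
  refine (center U43.PM).normal_of_characteristic.eq_bot_or_eq_top.resolve_right fun h => ?_
  let _ : CommGroup U43.PM := { mul_comm := fun a b => mem_center_iff.1 (h ▸ mem_top b) a }
  exact absurd (U43.card_PM ▸ IsSimpleGroup.prime_card) (by norm_num)

theorem six_of (h : Fi24T.LF z Q N M) [Finite G] (f : FM z Q π ρ) (ev : Rb ρ M = M0) {x : centralizer ({z} : Set G)}
    (h1 : x ≠ 1) (h3 : x ^ 3 = 1) (hx : ρ x = wS ∨ ρ x = wS * wS) {K : Subgroup (centralizer ({z} : Set G))}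
    (hK : ∀ k, k ∈ K ↔ k * x = x * k) (hc : ∃ k ∈ commutator K, (k.1 : G) = z * x ^ 2) :
    Group.IsPerfect K ∧ IsCyclic (center K) ∧ Nat.card (center K) = 6 ∧
      ∃ ψ : K →* U43.PM, Function.Surjective ψ ∧ ψ.ker = center K := by
  obtain ⟨w1, w2, w3⟩ := w_facts hx
  have up : ∀ {S : Subgroup G}, Q ≤ S → ∀ a, ρ a ∈ Rb ρ S → (a : G) ∈ S := fun hS a ⟨b, hb, e⟩ =>
    (mul_mem_cancel_left (inv_mem hb)).1 (hS ((f.ker (b⁻¹ * a)).1 (by simp [e])))
  have KM : ∀ k : K, (k.1 : G) ∈ M := fun k => up (h.QN.trans h.NM) _ (ev.ge (H0_inf_Lin f.cM f.card_H0 ▸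
    ⟨f.mem_H0 _, w2 ▸ mem_cent.2 (by rw [← map_mul, (hK _).1 k.2, map_mul])⟩))
  have hN : Rb ρ N = zpowers (ρ x) := by
    have c := card_eq_ker_mul ρ (S := N.subgroupOf _) (f.ker_eq ▸ comap_mono h.QN)
    rw [Nat.card_congr (subgroupOfEquivOfLe (h.NM.trans h.MC)).toEquiv, h.cardN, f.card_ker] at c
    obtain ⟨ζ, a1, a2, a3⟩ := exists_gen_three (S := Rb ρ N) (by rw [Rb]; omega)
    rw [w3, a3, (w_facts (eq_wS a1 a2 fun g hg => ?_)).2.2]
    obtain ⟨g, rfl⟩ := f.le hg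
    obtain ⟨n, hn, rfl⟩ := a3.ge (mem_zpowers ζ)
    exact a3.le ⟨g * n * g⁻¹, h.nN g (mem_cent.1 g.2) n hn, by simp⟩
  obtain ⟨φ, hs, hφ⟩ := h.iso
  let ψ : K →* U43.PM := φ.comp (((centralizer {z}).subtype.comp K.subtype).codRestrict M KM)
  have sψ : Function.Surjective ψ := fun y => by
    obtain ⟨m, rfl⟩ := hs y
    let m' : centralizer ({z} : Set G) := ⟨m, h.MC m.2⟩
    have e : ρ m' * ρ x = ρ x * ρ m' := mem_cent.1 (w2 ▸ (M0_le (ev.le ⟨m', m.2, rfl⟩)).2)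
    have e' : ρ (m' * x * m'⁻¹) = ρ x := by simp [e]
    obtain ⟨q, q1, q2⟩ := exists_conj_three f h3 (by rw [conj_pow, h3]; simp) e'.symm (e' ▸ hx)
    have q3 := h.QN ((f.ker q).1 q1)
    refine ⟨⟨q * m', (hK _).2 (mul_inv_eq_iff_eq_mul.1 (Eq.trans (by group) q2))⟩, ?_⟩
    exact (map_mul φ ⟨q, h.NM q3⟩ m).trans (by rw [(hφ _).2 q3, one_mul])
  let a : K := ⟨⟨z, mem_cent.2 rfl⟩, (hK _).2 (Subtype.ext (mem_cent.1 x.2).symm)⟩
  let b : K := ⟨x, (hK _).2 rfl⟩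
  have a2 : a ^ 2 = 1 := Subtype.ext (Subtype.ext ((pow_two z).trans f.pre.es.mul_self))
  have b3 : b ^ 3 = 1 := Subtype.ext h3
  have aZ : a ∈ center K := mem_center_iff.2 fun k => Subtype.ext (Subtype.ext (mem_cent.1 k.1.2))
  have bZ : b ∈ center K := mem_center_iff.2 fun k => Subtype.ext ((hK _).1 k.2)
  have ab : Commute a b := mem_center_iff.1 bZ a
  have gen : ∀ S : Subgroup K, a * b ^ 2 ∈ S → ψ.ker ≤ S := fun S hS k hk => by
    have aS : a ∈ S := by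
      have := pow_mem hS 3
      rwa [(ab.pow_right 2).mul_pow, pow_right_comm, b3, one_pow, mul_one, pow_succ, a2, one_mul] at this
    have bS : b ∈ S := by
      have := pow_mem hS 2
      rwa [(ab.pow_right 2).mul_pow, a2, one_mul, ← pow_mul, pow_succ, b3, one_mul] at this
    obtain ⟨i, hi⟩ := hN.le ⟨k.1, (hφ _).1 hk, rfl⟩
    have q1 := (f.ker (k * (b ^ i)⁻¹ : K)).1 (by simp [b, ← hi])
    have q2 := f.act x _ q1
    rw [mul_inv_eq_iff_eq_mul.2 (show (x : G) * _ = _ * x from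
      (congrArg Subtype.val ((hK _).1 (k * (b ^ i)⁻¹).2)).symm)] at q2
    have q3 := w1 (π (k * (b ^ i)⁻¹ : K))
    rw [q2, q2, add_self_zmod2, eq_comm, f.co.ker _ q1] at q3
    refine (mul_mem_cancel_right (inv_mem (zpow_mem bS i))).1 ?_
    rcases q3 with e | e
    · exact (Subtype.ext (Subtype.ext e) : _ = (1 : K)) ▸ one_mem S
    · exact (Subtype.ext (Subtype.ext e) : _ = a) ▸ aS
  have e1 : ψ.ker = center K := le_antisymm (gen _ (mul_mem aZ (pow_mem bZ 2))) fun k hk =>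
    (center_PM.le (mem_center_iff.2 fun y => (sψ y).elim fun m e => by
      rw [← e, ← map_mul, ← map_mul, mem_center_iff.1 hk]) :)
  have e2 : center K = zpowers (a * b ^ 2) :=
    le_antisymm (e1 ▸ gen _ (mem_zpowers _)) (zpowers_le.2 (mul_mem aZ (pow_mem bZ 2)))
  have o1 : orderOf a = 2 := orderOf_eq_prime a2 fun e => f.pre.es.ne_one (congrArg (·.1.1) e)
  have o2 : orderOf (b ^ 2) = 3 := orderOf_eq_prime (by rw [pow_right_comm, b3, one_pow]) fun e =>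
    h1 (congrArg (·.1) (by rwa [pow_succ, e, one_mul] at b3 : b = 1))
  refine ⟨⟨?_⟩, e2 ▸ inferInstance, by
    rw [e2, Nat.card_zpowers, (ab.pow_right 2).orderOf_mul_eq_mul_orderOf_of_coprime, o1, o2]
    rw [o1, o2]; decide, ψ, sψ, e1⟩
  obtain ⟨k, k1, k2⟩ := hc
  rw [← comap_map_eq_self (gen (commutator K) ((Subtype.ext (Subtype.ext k2) : k = a * b ^ 2) ▸ k1)), map_commutator_eq,
    MonoidHom.range_eq_top.2 sψ, ← commutator_def, (FiTool.perfect_of_simple center_PM).commutator_eq_top, comap_top]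

theorem six_u43 [Finite G] (h : Fi24T.LF z Q N M) {X : Subgroup (centralizer ({z} : Set G))} (hX : Nat.card X = 3)
    (hn : (X ⊔ Q.subgroupOf _).Normal) {K : Subgroup (centralizer ({z} : Set G))} (hK : K = centralizer X) :
    Group.IsPerfect K ∧ IsCyclic (center K) ∧ Nat.card (center K) = 6 ∧
      ∃ ψ : K →* U43.PM, Function.Surjective ψ ∧ ψ.ker = center K := by
  obtain ⟨π, ρ, f, ev⟩ := frame h
  obtain ⟨y, y1, y3, yz, yn, yc⟩ := exists_omega FiTool.m24_fi h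
  lift y to centralizer ({z} : Set G) using mem_cent.2 yz
  obtain ⟨x, x1, x3, rfl⟩ := exists_gen_three hX
  have l : ∀ y, Q.subgroupOf _ ≤ (zpowers (ρ y)).comap ρ := fun y a ha => by
    rw [mem_comap, (f.ker _).2 ha]; exact one_mem _
  have hx := rho_three f x1 x3 fun g => sup_le (a := zpowers x) (zpowers_le.2 (mem_zpowers (ρ x))) (l x)
    (hn.conj_mem _ (mem_sup_left (mem_zpowers x)) g)
  have y3' : y ^ 3 = 1 := Subtype.ext y3
  have hy := rho_three f (fun e => y1 (congrArg _ e)) y3' fun g => coe_mem_amb.1 (sup_le (b := Q)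
    (c := amb ((zpowers (ρ y)).comap ρ)) (zpowers_le.2 (coe_mem_amb.2 (mem_zpowers (ρ y))))
    (fun a ha => coe_mem_amb.2 (l y (x := ⟨a, f.pre.le_cent ha⟩) ha))
    ((mem_normalizer_iff.1 (yn g.2) _).1 (mem_sup_left (mem_zpowers _))))
  have key : ∀ x : centralizer ({z} : Set G), x ≠ 1 → x ^ 3 = 1 → ρ x = ρ y → (∀ k, k ∈ K ↔ k * x = x * k) →
      _ := fun x x1 x3 e hK => six_of h f ev x1 x3 (e ▸ hy) hK <| by
    obtain ⟨q, -, rfl⟩ := exists_conj_three f x3 y3' e hy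
    let j : K →* G := (MulAut.conj (q : G)⁻¹).toMonoidHom.comp ((centralizer {z}).subtype.comp K.subtype)
    have r : centralizer {z} ⊓ centralizer {(y : G)} ≤ j.range := fun u hu =>
      ⟨⟨q * ⟨u, hu.1⟩ * q⁻¹, (hK _).2 (Commute.conj (Subtype.ext (mem_cent.1 hu.2)) q)⟩, by simp [j, mul_assoc]⟩
    obtain ⟨k, k1, k2⟩ := (map_commutator_eq K j).ge (commutator_mono r r yc)
    refine ⟨k, k1, (MulAut.conj (q : G)⁻¹).injective (k2.trans ?_)⟩
    rw [map_mul, map_pow, MulAut.conj_apply, mul_inv_eq_iff_eq_mul.2 (mem_cent.1 (inv_mem q.2))]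
    simp [mul_assoc]
  have c1 : ∀ k, k ∈ K ↔ k * x = x * k := fun k => by rw [hK, zpowers_eq_closure, centralizer_closure, mem_cent]
  have e : x * x * (x * x) = x := by rw [← mul_assoc, ← pow_three', x3, one_mul]
  have k2 := key (x * x) (fun h => x1 (by rw [← e, h, one_mul])) (by rw [← pow_two, pow_right_comm, x3, one_pow])
  have c2 : ∀ k, k ∈ K ↔ k * (x * x) = x * x * k := fun k =>
    (c1 k).trans ⟨fun h => Commute.mul_right h h, fun h => e ▸ Commute.mul_right h h⟩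
  rcases hx with hx | hx <;> rcases hy with hy | hy
  · exact key x x1 x3 (hx.trans hy.symm) c1
  · exact k2 (by rw [map_mul, hx, hy]) c2
  · exact k2 (by rw [map_mul, hx, hy, ← mul_assoc, wS_cube, one_mul]) c2
  · exact key x x1 x3 (hx.trans hy.symm) c1

end CfsgLib.FiMM
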